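import Cfsg.Agent.Lib.helper17.TitsM.Stem2

/-! the words of the centralized presentation, level G (generated, helper17) -/

set_option autoImplicit false
set_option maxRecDepth 100000

namespace Cfsg.Agent.Lib.Helper17.TitsM.G.Pres

open Cfsg.Agent.Lib.Helper12.TC Cfsg.Agent.Lib.Helper12.TCG Cfsg.Agent.Lib.Helper17.TitsM

/-- a word of the presentation -/
def wS2 : List ℕ := [0, 0, 2, 2, 2]

/-- a word of the presentation -/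
def wS1 : List ℕ := [0, 2, 0, 2, 0, 2, 0, 2, 0, 2, 0, 2, 0, 2, 0, 2, 0, 2, 0, 2, 0, 2, 0, 2, 0, 2, 1, 1, 1, 1]

/-- words of the presentation -/
def wCs : List (List ℕ × List ℕ) := [([0, 0], [2])]

/-- a word of the presentation -/
def wR3 : List ℕ := [1, 3, 0, 2, 1, 3, 0, 2, 1, 3, 0, 2, 1, 3, 0, 2, 1, 3, 0, 2]

/-- a word of the presentation -/
def wR4 : List ℕ := [1, 3, 1, 3, 0, 2, 0, 2, 1, 3, 1, 3, 0, 2, 0, 2, 1, 3, 1, 3, 0, 2, 0, 2, 1, 3, 1, 3, 0, 2, 0, 2]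

/-- a word of the presentation -/
def wR5 : List ℕ := [0, 2, 0, 2, 0, 2, 0, 2, 0, 3, 0, 2, 0, 2, 0, 2, 0, 2, 0, 3, 0, 2, 0, 2, 0, 2, 0, 2, 0, 3, 0, 2, 0, 2, 0, 2, 0, 2, 0, 3, 0, 2, 0, 2, 0, 2, 0, 2, 0, 3, 0, 2, 0, 2, 0, 2, 0, 2, 0, 3]

/-- the base words: the relators, the letters with their inverses, the empty word -/
def baseL : List (List ℕ) :=
  [[0, 0, 2, 2, 2],
   [0, 2, 0, 2, 0, 2, 0, 2, 0, 2, 0, 2, 0, 2, 0, 2, 0, 2, 0, 2, 0, 2, 0, 2, 0, 2, 1, 1, 1, 1],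
   [1, 1, 3, 0, 0, 2],
   [1, 3, 0, 2, 1, 3, 0, 2, 1, 3, 0, 2, 1, 3, 0, 2, 1, 3, 0, 2, 5],
   [1, 3, 1, 3, 0, 2, 0, 2, 1, 3, 1, 3, 0, 2, 0, 2, 1, 3, 1, 3, 0, 2, 0, 2, 1, 3, 1, 3, 0, 2, 0, 2, 7],
   [0, 2, 0, 2, 0, 2, 0, 2, 0, 3, 0, 2, 0, 2, 0, 2, 0, 2, 0, 3, 0, 2, 0, 2, 0, 2, 0, 2, 0, 3, 0, 2, 0, 2, 0, 2, 0, 2, 0, 3, 0, 2, 0, 2, 0, 2, 0, 2, 0, 3, 0, 2, 0, 2, 0, 2, 0, 2, 0, 3, 9],
   [5, 1, 4, 0],
   [5, 3, 4, 2],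
   [7, 1, 6, 0],
   [7, 3, 6, 2],
   [9, 1, 8, 0],
   [9, 3, 8, 2],
   [0, 1],
   [1, 0],
   [2, 3],
   [3, 2],
   [4, 5],
   [5, 4],
   [6, 7],
   [7, 6],
   [8, 9],
   [9, 8],
   []]

theorem baseL_eq : baseL = h17tmBase wS2 wS1 wCs wR3 wR4 wR5 := by decide +kernel

/-- the first generator of the subgroup -/
def xw : List ℕ := [0, 2]

/-- the second generator of the subgroup -/
def yw : List ℕ := [2, 1, 3, 1, 3, 1, 3, 1, 3, 1, 3, 1, 2, 0, 2, 0, 2, 0, 2, 0, 2, 0, 2, 0, 3]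

/-- the pairs of words whose commutators generate the subgroup of the enumeration -/
def prs : List (List ℕ × List ℕ) := [([0], [2]), ([0], [3]), ([0], [0, 2]), ([0], [2, 0]), ([0], [0, 3]), ([0], [3, 0]), ([0], [0, 0, 2]), ([0], [0, 2, 0]), ([1], [2]), ([1], [3]), ([1], [0, 0]), ([1], [0, 2]), ([1], [2, 0]), ([1], [0, 3]), ([1], [3, 0]), ([1], [0, 0, 0]), ([1], [0, 0, 2]), ([1], [0, 2, 0]), ([2], [3]), ([2], [0, 0]), ([2], [0, 2]), ([2], [2, 0]), ([2], [0, 3]), ([2], [3, 0]), ([2], [0, 0, 0]), ([2], [0, 0, 2]), ([2], [0, 2, 0]), ([3], [0, 0]), ([3], [0, 2]), ([3], [2, 0]), ([3], [0, 3]), ([3], [3, 0]), ([3], [0, 0, 0]), ([3], [0, 0, 2]), ([3], [0, 2, 0]), ([0, 0], [0, 2]), ([0, 0], [2, 0]), ([0, 0], [0, 3]), ([0, 0], [3, 0]), ([0, 0], [0, 0, 0]), ([0, 0], [0, 0, 2]), ([0, 0], [0, 2, 0]), ([0, 2], [2, 0]),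 ([0, 2], [0, 3]), ([0, 2], [3, 0]), ([0, 2], [0, 0, 0]), ([0, 2], [0, 0, 2]), ([0, 2], [0, 2, 0]), ([2, 0], [0, 3]), ([2, 0], [3, 0]), ([2, 0], [0, 0, 0]), ([2, 0], [0, 0, 2]), ([2, 0], [0, 2, 0]), ([0, 3], [3, 0]), ([0, 3], [0, 0, 0]), ([0, 3], [0, 0, 2]), ([0, 3], [0, 2, 0]), ([3, 0], [0, 0, 0]), ([3, 0], [0, 0, 2]), ([3, 0], [0, 2, 0]), ([0, 0, 0], [0, 0, 2]), ([0, 0, 0], [0, 2, 0]), ([0, 0, 2], [0, 2, 0])]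

/-- the subgroup words -/
def swL : List (List ℕ) := prs.map (fun p => h17tmExp xw yw (h17tmCW p.1 p.2))

end Cfsg.Agent.Lib.Helper17.TitsM.G.Pres
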